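import Mathlib

/-!
# Approximation for finitely many independent discrete valuations
-/

open Filter

open scoped WithZero

namespace Groth.Agent.Lib.ArSurfOrd.Approx

variable {ι F : Type*} [Field F]

lemma eventually_mul_pow_lt {a c d : ℤᵐ⁰} (ha : a < 1) (hd : d ≠ 0) : ∀ᶠ n : ℕ in atTop, c * a ^ n < d := by
  rcases eq_or_ne c 0 with rfl | hc
  · exact .of_forall fun n => by rw [zero_mul]; exact zero_lt_iff.2 hd
  obtain ⟨N, hN⟩ := exists_pow_lt₀ ha (Units.mk0 (d / c) (div_ne_zero hd hc))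
  refine eventually_atTop.2 ⟨N, fun n hn => ?_⟩
  have h : a ^ n < d / c := (pow_le_pow_right_of_le_one' ha.le hn).trans_lt hN
  rwa [lt_div_iff₀' (zero_lt_iff.2 hc)] at h

variable (v : ι → Valuation F ℤᵐ⁰)

/-- An element small for `v i` and large for the valuations in `s`. -/
theorem exists_lt_one_one_lt {i : ι} (s : Finset ι) (hs : ∀ j ∈ s, j ≠ i)
    (hnle : ∀ j k, j ≠ k → ∃ x, v j x ≤ 1 ∧ 1 < v k x) (hnt : ∃ x, v i x < 1 ∧ x ≠ 0) :
    ∃ z, z ≠ 0 ∧ v i z < 1 ∧ ∀ j ∈ s, 1 < v j z := by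
  classical
  induction s using Finset.induction_on with
  | empty =>
    obtain ⟨x, hx, hx0⟩ := hnt
    exact ⟨x, hx0, hx, by simp⟩
  | insert k s hk ih =>
    obtain ⟨z, hz0, hzi, hzs⟩ := ih fun j hj => hs j (Finset.mem_insert_of_mem hj)
    have hki := hs k (Finset.mem_insert_self k s)
    obtain ⟨x, hx1, hx2⟩ := hnle i k hki.symm
    obtain ⟨w, hw1, hw2⟩ := hnle k i hki
    have hw0 : w ≠ 0 := fun h => by simp [h] at hw2
    set y := x / w with hy
    have hy1 : v i y < 1 := by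
      rw [hy, map_div₀, div_lt_one₀ (zero_lt_one.trans hw2)]
      exact hx1.trans_lt hw2
    have hy2 : 1 < v k y := by
      rw [hy, map_div₀, one_lt_div₀ (zero_lt_iff.2 ((v k).ne_zero_iff.2 hw0))]
      exact hw1.trans_lt hx2
    by_cases hzk : 1 < v k z
    · exact ⟨z, hz0, hzi, fun j hj => (Finset.mem_insert.1 hj).elim (fun e => e ▸ hzk) (hzs j)⟩
    push Not at hzk
    have hlarge : ∀ᶠ n : ℕ in atTop, ∀ j ∈ s, v j y < v j (z ^ n) := by
      rw [eventually_all_finset]
      intro j hj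
      have hj1 : (v j z)⁻¹ < 1 := inv_lt_one_of_one_lt₀ (hzs j hj)
      refine (eventually_mul_pow_lt (c := v j y) hj1 one_ne_zero).mono fun n hn => ?_
      rw [inv_pow, mul_inv_lt_iff₀ (pow_pos (zero_lt_iff.2 ((v j).ne_zero_iff.2 hz0)) n), one_mul] at hn
      rwa [map_pow]
    obtain ⟨n, hn, hn1⟩ := (hlarge.and (eventually_ge_atTop 1)).exists
    have hzn : v k (z ^ n) < v k y := by
      rw [map_pow]
      exact (pow_le_one₀ zero_le hzk).trans_lt hy2
    have hvk : v k (z ^ n + y) = v k y := Valuation.map_add_eq_of_lt_right _ hzn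
    refine ⟨z ^ n + y, fun h => ?_, ?_, fun j hj => ?_⟩
    · rw [h, map_zero] at hvk
      exact (zero_lt_one.trans hy2).ne hvk
    · refine Valuation.map_add_lt _ ?_ hy1
      rw [map_pow]
      exact pow_lt_one₀ zero_le hzi (by omega)
    · rcases Finset.mem_insert.1 hj with rfl | hj
      · rw [hvk]; exact hy2
      · rw [Valuation.map_add_eq_of_lt_left _ (hn j hj), map_pow]
        exact one_lt_pow₀ (hzs j hj) (by omega)

/-- An element with prescribed values. -/
theorem exists_eq [Finite ι] (hnle : ∀ j k, j ≠ k → ∃ x, v j x ≤ 1 ∧ 1 < v k x)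
    (hnt : ∀ i, ∃ x, v i x < 1 ∧ x ≠ 0) (t : ι → F) (ht : ∀ i, t i ≠ 0) :
    ∃ f : F, ∀ i, v i f = v i (t i) := by
  classical
  have := Fintype.ofFinite ι
  choose z hz0 hzi hzs using fun i =>
    exists_lt_one_one_lt v (i := i) (Finset.univ.erase i) (fun j hj => (Finset.mem_erase.1 hj).1) hnle (hnt i)
  have hb : ∀ᶠ n : ℕ in atTop, 1 ≤ n ∧ ∀ i j : ι, i ≠ j → v j (t i) * (v j (z i))⁻¹ ^ n < v j (t j) := by
    refine (eventually_ge_atTop 1).and (eventually_all.2 fun i => eventually_all.2 fun j => ?_)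
    by_cases hij : i = j
    · exact .of_forall fun n h => absurd hij h
    exact (eventually_mul_pow_lt (c := v j (t i))
      (inv_lt_one_of_one_lt₀ (hzs i j (Finset.mem_erase.2 ⟨Ne.symm hij, Finset.mem_univ j⟩)))
      ((v j).ne_zero_iff.2 (ht j))).mono fun n hn _ => hn
  obtain ⟨n, hn1, hn⟩ := hb.exists
  refine ⟨∑ i, t i / (1 + z i ^ n), fun j => ?_⟩
  rw [← Finset.add_sum_erase _ _ (Finset.mem_univ j)]
  have hmain : v j (t j / (1 + z j ^ n)) = v j (t j) := by
    rw [map_div₀, Valuation.map_one_add_of_lt _ (by rw [map_pow]; exact pow_lt_one₀ zero_le (hzi j) (by omega)),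
      div_one]
  rw [Valuation.map_add_eq_of_lt_left _ ?_, hmain]
  rw [hmain]
  refine Valuation.map_sum_lt _ ((v j).ne_zero_iff.2 (ht j)) fun i hi => ?_
  have hij := (Finset.mem_erase.1 hi).1
  have h1 : v j 1 < v j (z i ^ n) := by
    rw [map_one, map_pow]
    exact one_lt_pow₀ (hzs i j (Finset.mem_erase.2 ⟨Ne.symm hij, Finset.mem_univ j⟩)) (by omega)
  rw [map_div₀, Valuation.map_add_eq_of_lt_right _ h1, map_pow, div_eq_mul_inv, ← inv_pow]
  exact hn i j hij

end Groth.Agent.Lib.ArSurfOrd.Approx
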